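-- Team project CHO (S1082): the reduction steps [ST-D4-k] (k = 0, 1, 2), generic in k (helper26).
import Mathlib
import Cfsg.Agent.Lib.Helper99.CHO.Defs
import Cfsg.Agent.Lib.Helper99.CHO.Defs2

set_option autoImplicit false
open scoped MatrixGroups
open Matrix

namespace Cfsg.Agent.Lib.Helper26.CHO

open Cfsg.Agent.Lib.Helper99.CHO

universe u

/-- Root index of the root element `u ↦ u + t u(p) e_c - t u(c') e_{p'}` (positions in `ix8` order). -/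
def rTabD4 : List (List ℕ) :=
  [[0, 5, 4, 2, 0, 0, 1, 3], [18, 0, 9, 7, 0, 0, 6, 8], [19, 14, 0, 10, 1, 6, 0, 11],
   [21, 16, 13, 0, 3, 8, 11, 0], [0, 23, 22, 20, 0, 18, 19, 21], [23, 0, 17, 15, 5, 0, 14, 16],
   [22, 17, 0, 12, 4, 9, 0, 13], [20, 15, 12, 0, 2, 7, 10, 0]]

/-- The sign of the table entry. -/
def sTabD4 : List (List ℤ) :=
  [[0, 1, -1, 1, 0, 1, 1, 1], [1, 0, 1, -1, -1, 0, -1, -1], [-1, 1, 0, 1, -1, 1, 0, 1],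
   [1, -1, 1, 0, -1, 1, -1, 0], [0, -1, -1, -1, 0, -1, 1, -1], [1, 0, 1, 1, -1, 0, -1, 1],
   [1, -1, 0, -1, 1, -1, 0, -1], [1, -1, 1, 0, -1, 1, -1, 0]]

/-- root index for the pair `(p, c)` -/
def rOfD4 (p c : ℕ) : ℕ := (rTabD4.getD p []).getD c 0

/-- sign for the pair `(p, c)` -/
def sOfD4 (p c : ℕ) : ℤ := (sTabD4.getD p []).getD c 0

set_option maxRecDepth 100000 in
theorem tabFactD4 : ∀ p c : Fin 8, c ≠ p → c.val ≠ (p.val + 4) % 8 →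
    (rOfD4 p.val c.val < 24 ∧ sOfD4 p.val c.val * sOfD4 p.val c.val = 1 ∧ ∀ a b : Fin 8,
      tab3 nListD4 (rOfD4 p.val c.val) a.val b.val =
        sOfD4 p.val c.val * ((if a = c ∧ b = p then 1 else 0) -
          (if a.val = (p.val + 4) % 8 ∧ b.val = (c.val + 4) % 8 then 1 else 0))) := by
  decide

theorem ix8_lt8 (p : Fin 4 ⊕ Fin 4) : ix8 p < 8 := by
  rcases p with i | i <;> simp only [ix8] <;> omega

theorem ix8_eq_iff8 {p q : Fin 4 ⊕ Fin 4} : ix8 p = ix8 q ↔ p = q := by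
  constructor
  · intro h
    rcases p with i | i <;> rcases q with j | j <;> simp only [ix8] at h
    · exact congrArg Sum.inl (Fin.ext h)
    · omega
    · omega
    · exact congrArg Sum.inr (Fin.ext (by omega))
  · intro h
    rw [h]

theorem ix8_swap8 (p : Fin 4 ⊕ Fin 4) : (ix8 p + 4) % 8 = ix8 p.swap := by
  rcases p with i | i <;> simp only [ix8, Sum.swap_inl, Sum.swap_inr] <;> omega

/-- projection to the index of the hyperbolic pair -/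
def pr8 : Fin 4 ⊕ Fin 4 → ℕ := Sum.elim (fun i => i.val) (fun i => i.val)

theorem pr8_swap (d : Fin 4 ⊕ Fin 4) : pr8 d.swap = pr8 d := by
  rcases d with i | i <;> rfl

theorem ne_swap8 (p : Fin 4 ⊕ Fin 4) : p ≠ p.swap := by
  rcases p with i | i <;> simp

section
variable (K : Type u) [Field K]

theorem ND4_entry (p c : Fin 4 ⊕ Fin 4) (h1 : c ≠ p) (h2 : c ≠ p.swap) (a b : Fin 4 ⊕ Fin 4) :
    ND4 K (rOfD4 (ix8 p) (ix8 c)) a b = (sOfD4 (ix8 p) (ix8 c) : K) *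
      ((if a = c ∧ b = p then 1 else 0) - (if a = p.swap ∧ b = c.swap then 1 else 0)) := by
  have h := (tabFactD4 ⟨ix8 p, ix8_lt8 p⟩ ⟨ix8 c, ix8_lt8 c⟩
    (by intro h; exact h1 (ix8_eq_iff8.mp (Fin.mk.inj h)))
    (by
      show ix8 c ≠ (ix8 p + 4) % 8
      rw [ix8_swap8]
      intro h; exact h2 (ix8_eq_iff8.mp h))).2.2 ⟨ix8 a, ix8_lt8 a⟩ ⟨ix8 b, ix8_lt8 b⟩
  simp only [Fin.mk.injEq, ix8_eq_iff8, ix8_swap8] at h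
  show ((tab3 nListD4 _ (ix8 a) (ix8 b) : ℤ) : K) = _
  rw [h]
  push_cast
  rfl

theorem elemOpD4 (hU : PkgUnitD4.{u}) (p c : Fin 4 ⊕ Fin 4) (h1 : c ≠ p) (h2 : c ≠ p.swap)
    (t : K) :
    ∃ ρ ∈ RD4 K, ∀ (w : Fin 4 ⊕ Fin 4 → K) (d : Fin 4 ⊕ Fin 4),
      ((ρ : Matrix (Fin 4 ⊕ Fin 4) (Fin 4 ⊕ Fin 4) K) *ᵥ w) d =
        w d + (if d = c then t * w p else 0) - (if d = p.swap then t * w c.swap else 0) := by
  obtain ⟨hr, hs, -⟩ := tabFactD4 ⟨ix8 p, ix8_lt8 p⟩ ⟨ix8 c, ix8_lt8 c⟩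
    (by intro h; exact h1 (ix8_eq_iff8.mp (Fin.mk.inj h)))
    (by
      show ix8 c ≠ (ix8 p + 4) % 8
      rw [ix8_swap8]
      intro h; exact h2 (ix8_eq_iff8.mp h))
  simp only at hr hs
  have hsK : (sOfD4 (ix8 p) (ix8 c) : K) * (sOfD4 (ix8 p) (ix8 c) : K) = 1 := by
    exact_mod_cast congrArg (Int.cast : ℤ → K) hs
  have hr' : rOfD4 (ix8 p) (ix8 c) < Cfsg.Lie.chevD4.nroots := hr
  have hu : IsUnit (ED4mat K (rOfD4 (ix8 p) (ix8 c)) ((sOfD4 (ix8 p) (ix8 c) : K) * t)) :=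
    hU K _ _ hr
  refine ⟨ED4 K ⟨rOfD4 (ix8 p) (ix8 c), hr'⟩ ((sOfD4 (ix8 p) (ix8 c) : K) * t),
    Subgroup.subset_closure ⟨(⟨rOfD4 (ix8 p) (ix8 c), hr'⟩, (sOfD4 (ix8 p) (ix8 c) : K) * t), rfl⟩,
    ?_⟩
  intro w d
  have hcoe : ((ED4 K ⟨rOfD4 (ix8 p) (ix8 c), hr'⟩ ((sOfD4 (ix8 p) (ix8 c) : K) * t) :
      GL (Fin 4 ⊕ Fin 4) K) : Matrix (Fin 4 ⊕ Fin 4) (Fin 4 ⊕ Fin 4) K) =
      ED4mat K (rOfD4 (ix8 p) (ix8 c)) ((sOfD4 (ix8 p) (ix8 c) : K) * t) := by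
    unfold ED4
    rw [dif_pos hu]
    exact hu.unit_spec
  rw [hcoe, ED4mat, Matrix.add_mulVec, Matrix.one_mulVec, Matrix.smul_mulVec]
  simp only [Pi.add_apply, Pi.smul_apply, smul_eq_mul, Matrix.mulVec, dotProduct,
    ND4_entry K p c h1 h2]
  have hsum : ∑ x, (sOfD4 (ix8 p) (ix8 c) : K) *
      ((if d = c ∧ x = p then 1 else 0) - (if d = p.swap ∧ x = c.swap then 1 else 0)) * w x =
      (sOfD4 (ix8 p) (ix8 c) : K) * ((if d = c then w p else 0) -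
        (if d = p.swap then w c.swap else 0)) := by
    simp only [mul_assoc, ← Finset.mul_sum, sub_mul, Finset.sum_sub_distrib, ite_and, ite_mul,
      one_mul, zero_mul]
    congr 2
    · by_cases hd : d = c
      · simp [hd]
      · simp [hd]
    · by_cases hd : d = p.swap
      · simp [hd]
      · simp [hd]
  rw [hsum]
  have e1 : (sOfD4 (ix8 p) (ix8 c) : K) * t * ((sOfD4 (ix8 p) (ix8 c) : K) *
      ((if d = c then w p else 0) - (if d = p.swap then w c.swap else 0))) =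
      ((sOfD4 (ix8 p) (ix8 c) : K) * (sOfD4 (ix8 p) (ix8 c) : K)) * (t *
      ((if d = c then w p else 0) - (if d = p.swap then w c.swap else 0))) := by ring
  rw [e1, hsK, one_mul, mul_sub, mul_ite, mul_ite, mul_zero, add_sub_assoc]

/-- `ρ` fixes all vectors vanishing on `S`. -/
def FxD4 (S : Set (Fin 4 ⊕ Fin 4)) (ρ : GL (Fin 4 ⊕ Fin 4) K) : Prop :=
  ∀ w : Fin 4 ⊕ Fin 4 → K, (∀ d ∈ S, w d = 0) →
    (ρ : Matrix (Fin 4 ⊕ Fin 4) (Fin 4 ⊕ Fin 4) K) *ᵥ w = w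

theorem fxD4_one (S : Set (Fin 4 ⊕ Fin 4)) : FxD4 K S 1 := by
  intro w _
  simp

theorem fxD4_mul {S : Set (Fin 4 ⊕ Fin 4)} {ρ σ : GL (Fin 4 ⊕ Fin 4) K} (h1 : FxD4 K S ρ)
    (h2 : FxD4 K S σ) : FxD4 K S (ρ * σ) := by
  intro w hw
  rw [Units.val_mul, ← Matrix.mulVec_mulVec, h2 w hw, h1 w hw]

theorem clearOneD4 (hU : PkgUnitD4.{u}) (S : Set (Fin 4 ⊕ Fin 4)) (p c : Fin 4 ⊕ Fin 4)
    (h1 : c ≠ p) (h2 : c ≠ p.swap) (v : Fin 4 ⊕ Fin 4 → K) (hp : v p ≠ 0)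
    (hS : v c ≠ 0 → p ∈ S ∧ c.swap ∈ S) :
    ∃ ρ ∈ RD4 K, FxD4 K S ρ ∧
      ((ρ : Matrix (Fin 4 ⊕ Fin 4) (Fin 4 ⊕ Fin 4) K) *ᵥ v) c = 0 ∧
      ∀ d, d ≠ c → d ≠ p.swap →
        ((ρ : Matrix (Fin 4 ⊕ Fin 4) (Fin 4 ⊕ Fin 4) K) *ᵥ v) d = v d := by
  by_cases hc : v c = 0
  · exact ⟨1, Subgroup.one_mem _, fxD4_one K S, by simpa using hc, fun d _ _ => by simp⟩
  · obtain ⟨hpS, hcS⟩ := hS hc
    obtain ⟨ρ, hρ, hf⟩ := elemOpD4 K hU p c h1 h2 (-(v c) / v p)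
    refine ⟨ρ, hρ, ?_, ?_, ?_⟩
    · intro w hw
      ext d
      rw [hf, hw p hpS, hw _ hcS]
      simp
    · rw [hf, if_pos rfl, if_neg h2]
      field_simp
      ring
    · intro d hd1 hd2
      rw [hf, if_neg hd1, if_neg hd2]
      simp

theorem clearListD4 (hU : PkgUnitD4.{u}) (S : Set (Fin 4 ⊕ Fin 4)) (p : Fin 4 ⊕ Fin 4)
    (v : Fin 4 ⊕ Fin 4 → K) (hp : v p ≠ 0)
    (hS : ∀ c, c ≠ p → c ≠ p.swap → v c ≠ 0 → p ∈ S ∧ c.swap ∈ S)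
    (L : List (Fin 4 ⊕ Fin 4)) (hL : ∀ c ∈ L, c ≠ p ∧ c ≠ p.swap) :
    ∃ ρ ∈ RD4 K, FxD4 K S ρ ∧
      (∀ c ∈ L, ((ρ : Matrix (Fin 4 ⊕ Fin 4) (Fin 4 ⊕ Fin 4) K) *ᵥ v) c = 0) ∧
      ∀ d, d ∉ L → d ≠ p.swap →
        ((ρ : Matrix (Fin 4 ⊕ Fin 4) (Fin 4 ⊕ Fin 4) K) *ᵥ v) d = v d := by
  induction L with
  | nil => exact ⟨1, Subgroup.one_mem _, fxD4_one K S, by simp, fun d _ _ => by simp⟩
  | cons c L ih =>
    obtain ⟨ρ₀, hρ₀, hfx₀, hz₀, hu₀⟩ := ih (fun c' hc' => hL c' (List.mem_cons_of_mem _ hc'))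
    obtain ⟨hc1, hc2⟩ := hL c List.mem_cons_self
    have hpL : p ∉ L := fun h => (hL p (List.mem_cons_of_mem _ h)).1 rfl
    have hp₀ : ((ρ₀ : Matrix (Fin 4 ⊕ Fin 4) (Fin 4 ⊕ Fin 4) K) *ᵥ v) p ≠ 0 := by
      rw [hu₀ p hpL (ne_swap8 p)]; exact hp
    have hS₀ : ((ρ₀ : Matrix (Fin 4 ⊕ Fin 4) (Fin 4 ⊕ Fin 4) K) *ᵥ v) c ≠ 0 →
        p ∈ S ∧ c.swap ∈ S := by
      intro h
      by_cases hcL : c ∈ L
      · exact absurd (hz₀ c hcL) h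
      · rw [hu₀ c hcL hc2] at h
        exact hS c hc1 hc2 h
    obtain ⟨ρ₁, hρ₁, hfx₁, hz₁, hu₁⟩ := clearOneD4 K hU S p c hc1 hc2 _ hp₀ hS₀
    refine ⟨ρ₁ * ρ₀, Subgroup.mul_mem _ hρ₁ hρ₀, fxD4_mul K hfx₁ hfx₀, ?_, ?_⟩
    · intro c' hc'
      rw [Units.val_mul, ← Matrix.mulVec_mulVec]
      by_cases hcc : c' = c
      · rw [hcc]; exact hz₁
      · have hc'L : c' ∈ L := by
          rcases List.mem_cons.mp hc' with h | h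
          · exact absurd h hcc
          · exact h
        rw [hu₁ c' hcc (hL c' hc').2]
        exact hz₀ c' hc'L
    · intro d hd hdp
      rw [Units.val_mul, ← Matrix.mulVec_mulVec]
      have hdc : d ≠ c := fun h => hd (h ▸ List.mem_cons_self)
      have hdL : d ∉ L := fun h => hd (List.mem_cons_of_mem _ h)
      rw [hu₁ d hdc hdp]
      exact hu₀ d hdL hdp

theorem clearAllD4 (hU : PkgUnitD4.{u}) (S : Set (Fin 4 ⊕ Fin 4)) (p : Fin 4 ⊕ Fin 4)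
    (v : Fin 4 ⊕ Fin 4 → K) (hp : v p ≠ 0)
    (hS : ∀ c, c ≠ p → c ≠ p.swap → v c ≠ 0 → p ∈ S ∧ c.swap ∈ S) :
    ∃ ρ ∈ RD4 K, FxD4 K S ρ ∧
      (∀ c, c ≠ p → c ≠ p.swap →
        ((ρ : Matrix (Fin 4 ⊕ Fin 4) (Fin 4 ⊕ Fin 4) K) *ᵥ v) c = 0) ∧
      ((ρ : Matrix (Fin 4 ⊕ Fin 4) (Fin 4 ⊕ Fin 4) K) *ᵥ v) p = v p := by
  classical
  obtain ⟨ρ, hρ, hfx, hz, hu⟩ := clearListD4 K hU S p v hp hS
    ((Finset.univ : Finset (Fin 4 ⊕ Fin 4)).toList.filter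
      (fun c => decide (c ≠ p ∧ c ≠ p.swap))) (by
    intro c hc
    simpa using (List.mem_filter.mp hc).2)
  refine ⟨ρ, hρ, hfx, ?_, ?_⟩
  · intro c h1 h2
    exact hz c (List.mem_filter.mpr ⟨Finset.mem_toList.mpr (Finset.mem_univ _), by simp [h1, h2]⟩)
  · apply hu
    · intro h
      have := (List.mem_filter.mp h).2
      simp at this
    · exact ne_swap8 p

theorem eD_apply_ne {i : Fin 4} {d : Fin 4 ⊕ Fin 4} (h : d ≠ Sum.inl i) : eD K i d = 0 := by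
  simp [eD, h]

theorem fD_apply_ne {i : Fin 4} {d : Fin 4 ⊕ Fin 4} (h : d ≠ Sum.inr i) : fD K i d = 0 := by
  simp [fD, h]

theorem eD_apply_self (i : Fin 4) : eD K i (Sum.inl i) = 1 := by
  simp [eD]

theorem fD_apply_self (i : Fin 4) : fD K i (Sum.inr i) = 1 := by
  simp [fD]

theorem qPlus_add_e (w : Fin 4 ⊕ Fin 4 → K) (a : K) (i : Fin 4) :
    Cfsg.quadFormPlus 4 K (w + a • eD K i) = Cfsg.quadFormPlus 4 K w + a * w (Sum.inr i) := by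
  simp only [Cfsg.quadFormPlus, eD, Pi.add_apply, Pi.smul_apply, smul_eq_mul, Pi.single_apply,
    Sum.inl.injEq, reduceCtorEq, if_false, mul_zero, add_zero, add_mul, Finset.sum_add_distrib]
  congr 1
  simp [Finset.sum_ite_eq']

theorem qPlus_add_f (w : Fin 4 ⊕ Fin 4 → K) (a : K) (i : Fin 4) :
    Cfsg.quadFormPlus 4 K (w + a • fD K i) = Cfsg.quadFormPlus 4 K w + a * w (Sum.inl i) := by
  simp only [Cfsg.quadFormPlus, fD, Pi.add_apply, Pi.smul_apply, smul_eq_mul, Pi.single_apply,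
    Sum.inr.injEq, reduceCtorEq, if_false, mul_zero, add_zero, mul_add, Finset.sum_add_distrib]
  congr 1
  simp [Finset.sum_ite_eq', mul_comm]

theorem qPlus_e (i : Fin 4) : Cfsg.quadFormPlus 4 K (eD K i) = 0 := by
  have h := qPlus_add_e K 0 1 i
  simpa [Cfsg.quadFormPlus] using h

theorem qPlus_f (i : Fin 4) : Cfsg.quadFormPlus 4 K (fD K i) = 0 := by
  have h := qPlus_add_f K 0 1 i
  simpa [Cfsg.quadFormPlus] using h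

theorem qPlus_pair (w : Fin 4 ⊕ Fin 4 → K) (κ : Fin 4)
    (h : ∀ c, c ≠ Sum.inl κ → c ≠ Sum.inr κ → w c = 0) :
    Cfsg.quadFormPlus 4 K w = w (Sum.inl κ) * w (Sum.inr κ) := by
  unfold Cfsg.quadFormPlus
  rw [Finset.sum_eq_single κ]
  · intro m _ hm
    rw [h (Sum.inl m) (by simpa using hm) (by simp), zero_mul]
  · simp

theorem orth_eD4 (h : GL (Fin 4 ⊕ Fin 4) K)
    (hh : ∀ w, Cfsg.quadFormPlus 4 K ((h : Matrix (Fin 4 ⊕ Fin 4) (Fin 4 ⊕ Fin 4) K) *ᵥ w) =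
      Cfsg.quadFormPlus 4 K w)
    (x : Fin 4 ⊕ Fin 4 → K) (i : Fin 4) (b : K) (hb : b ≠ 0)
    (he : (h : Matrix (Fin 4 ⊕ Fin 4) (Fin 4 ⊕ Fin 4) K) *ᵥ eD K i = b • eD K i) :
    ((h : Matrix (Fin 4 ⊕ Fin 4) (Fin 4 ⊕ Fin 4) K) *ᵥ x) (Sum.inr i) = b⁻¹ * x (Sum.inr i) := by
  have h1 := hh (x + (1 : K) • eD K i)
  rw [Matrix.mulVec_add, Matrix.mulVec_smul, he, smul_smul, qPlus_add_e, qPlus_add_e, hh] at h1
  field_simp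
  linear_combination h1

theorem orth_fD4 (h : GL (Fin 4 ⊕ Fin 4) K)
    (hh : ∀ w, Cfsg.quadFormPlus 4 K ((h : Matrix (Fin 4 ⊕ Fin 4) (Fin 4 ⊕ Fin 4) K) *ᵥ w) =
      Cfsg.quadFormPlus 4 K w)
    (x : Fin 4 ⊕ Fin 4 → K) (i : Fin 4) (b : K) (hb : b ≠ 0)
    (he : (h : Matrix (Fin 4 ⊕ Fin 4) (Fin 4 ⊕ Fin 4) K) *ᵥ fD K i = b • fD K i) :
    ((h : Matrix (Fin 4 ⊕ Fin 4) (Fin 4 ⊕ Fin 4) K) *ᵥ x) (Sum.inl i) = b⁻¹ * x (Sum.inl i) := by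
  have h1 := hh (x + (1 : K) • fD K i)
  rw [Matrix.mulVec_add, Matrix.mulVec_smul, he, smul_smul, qPlus_add_f, qPlus_add_f, hh] at h1
  field_simp
  linear_combination h1

theorem stepA1'D4 (hU : PkgUnitD4.{u}) (k : ℕ) (κ : Fin 4) (hκ : κ.val = k)
    (v : Fin 4 ⊕ Fin 4 → K) (hsupp : ∀ d, pr8 d < k → v d = 0)
    (c : Fin 4 ⊕ Fin 4) (hc : c ≠ Sum.inr κ) (hvc : v c ≠ 0) :
    ∃ ρ ∈ RD4 K, FxD4 K {d | k ≤ pr8 d} ρ ∧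
      ((ρ : Matrix (Fin 4 ⊕ Fin 4) (Fin 4 ⊕ Fin 4) K) *ᵥ v) (Sum.inl κ) ≠ 0 ∧
      ∀ d, pr8 d < k → ((ρ : Matrix (Fin 4 ⊕ Fin 4) (Fin 4 ⊕ Fin 4) K) *ᵥ v) d = 0 := by
  by_cases hx : v (Sum.inl κ) ≠ 0
  · exact ⟨1, Subgroup.one_mem _, fxD4_one K _, by simpa using hx,
      fun d hd => by simpa using hsupp d hd⟩
  · push Not at hx
    have hc1 : c ≠ Sum.inl κ := fun h => hvc (h ▸ hx)
    have hck : k ≤ pr8 c := by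
      by_contra h
      exact hvc (hsupp c (by omega))
    have hsw : Sum.inl κ ≠ c.swap := by
      intro h
      apply hc
      have h' := congrArg Sum.swap h
      simpa using h'.symm
    obtain ⟨ρ, hρ, hf⟩ := elemOpD4 K hU c (Sum.inl κ) (Ne.symm hc1) hsw 1
    refine ⟨ρ, hρ, ?_, ?_, ?_⟩
    · intro w hw
      ext d
      rw [hf, hw c hck, hw (Sum.inl κ).swap (by
        show k ≤ pr8 (Sum.inl κ).swap
        rw [pr8_swap]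
        exact le_of_eq hκ.symm)]
      simp
    · rw [hf, if_pos rfl, if_neg hsw, hx]
      simpa using hvc
    · intro d hd
      have hd1 : d ≠ Sum.inl κ := by
        rintro rfl
        have : pr8 (Sum.inl κ) = k := hκ
        omega
      have hd2 : d ≠ c.swap := by
        rintro rfl
        rw [pr8_swap] at hd
        omega
      rw [hf, if_neg hd1, if_neg hd2, hsupp d hd]
      simp

theorem stepA1D4 (hU : PkgUnitD4.{u}) (k : ℕ) (hk : k ≤ 2) (κ : Fin 4) (hκ : κ.val = k)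
    (v : Fin 4 ⊕ Fin 4 → K) (hsupp : ∀ d, pr8 d < k → v d = 0) (hv : v ≠ 0) :
    ∃ ρ ∈ RD4 K, FxD4 K {d | k ≤ pr8 d} ρ ∧
      ((ρ : Matrix (Fin 4 ⊕ Fin 4) (Fin 4 ⊕ Fin 4) K) *ᵥ v) (Sum.inl κ) ≠ 0 ∧
      ∀ d, pr8 d < k → ((ρ : Matrix (Fin 4 ⊕ Fin 4) (Fin 4 ⊕ Fin 4) K) *ᵥ v) d = 0 := by
  by_cases h : ∃ c, c ≠ Sum.inr κ ∧ v c ≠ 0
  · obtain ⟨c, hc, hvc⟩ := h
    exact stepA1'D4 K hU k κ hκ v hsupp c hc hvc
  · push Not at h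
    have hy : v (Sum.inr κ) ≠ 0 := by
      intro h0
      apply hv
      ext d
      by_cases hd : d = Sum.inr κ
      · rw [hd]; exact h0
      · exact h d hd
    have hj : κ.val + 1 < 4 := by omega
    have hjκ : (⟨κ.val + 1, hj⟩ : Fin 4) ≠ κ := by
      intro h'
      have := congrArg Fin.val h'
      simp at this
    have hne1 : (Sum.inr ⟨κ.val + 1, hj⟩ : Fin 4 ⊕ Fin 4) ≠ Sum.inr κ := by
      intro h'
      exact hjκ (Sum.inr.inj h')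
    obtain ⟨ρ₀, hρ₀, hf₀⟩ := elemOpD4 K hU (Sum.inr κ) (Sum.inr ⟨κ.val + 1, hj⟩) hne1
      (by simp) 1
    have hv₀j : ((ρ₀ : Matrix (Fin 4 ⊕ Fin 4) (Fin 4 ⊕ Fin 4) K) *ᵥ v)
        (Sum.inr ⟨κ.val + 1, hj⟩) ≠ 0 := by
      rw [hf₀, if_pos rfl, if_neg (by simp), h _ hne1]
      simpa using hy
    have hsupp₀ : ∀ d, pr8 d < k →
        ((ρ₀ : Matrix (Fin 4 ⊕ Fin 4) (Fin 4 ⊕ Fin 4) K) *ᵥ v) d = 0 := by
      intro d hd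
      have hd1 : d ≠ Sum.inr ⟨κ.val + 1, hj⟩ := by
        rintro rfl
        have : pr8 (Sum.inr (⟨κ.val + 1, hj⟩ : Fin 4)) = κ.val + 1 := rfl
        omega
      have hd2 : d ≠ (Sum.inr κ : Fin 4 ⊕ Fin 4).swap := by
        rintro rfl
        have : pr8 (Sum.inr κ : Fin 4 ⊕ Fin 4).swap = κ.val := rfl
        omega
      rw [hf₀, if_neg hd1, if_neg hd2, hsupp d hd]
      simp
    have hfx₀ : FxD4 K {d | k ≤ pr8 d} ρ₀ := by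
      intro w hw
      ext d
      rw [hf₀, hw (Sum.inr κ) (le_of_eq hκ.symm), hw (Sum.inr (⟨κ.val + 1, hj⟩ : Fin 4)).swap (by
        show k ≤ κ.val + 1
        omega)]
      simp
    obtain ⟨ρ₁, hρ₁, hfx₁, hne, hs₁⟩ := stepA1'D4 K hU k κ hκ _ hsupp₀
      (Sum.inr ⟨κ.val + 1, hj⟩) hne1 hv₀j
    refine ⟨ρ₁ * ρ₀, Subgroup.mul_mem _ hρ₁ hρ₀, fxD4_mul K hfx₁ hfx₀, ?_, ?_⟩
    · rw [Units.val_mul, ← Matrix.mulVec_mulVec]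
      exact hne
    · intro d hd
      rw [Units.val_mul, ← Matrix.mulVec_mulVec]
      exact hs₁ d hd

theorem stepAD4 (hU : PkgUnitD4.{u}) (hRO : PkgRoD4.{u}) (k : ℕ) (hk : k ≤ 2) (κ : Fin 4)
    (hκ : κ.val = k) (v : Fin 4 ⊕ Fin 4 → K) (hsupp : ∀ d, pr8 d < k → v d = 0) (hv : v ≠ 0)
    (hQ : Cfsg.quadFormPlus 4 K v = 0) :
    ∃ ρ ∈ RD4 K, FxD4 K {d | k ≤ pr8 d} ρ ∧ ∃ a : K, a ≠ 0 ∧
      (ρ : Matrix (Fin 4 ⊕ Fin 4) (Fin 4 ⊕ Fin 4) K) *ᵥ v = a • eD K κ := by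
  obtain ⟨ρ₁, hρ₁, hfx₁, hne, hs₁⟩ := stepA1D4 K hU k hk κ hκ v hsupp hv
  have hQ₁ : Cfsg.quadFormPlus 4 K ((ρ₁ : Matrix (Fin 4 ⊕ Fin 4) (Fin 4 ⊕ Fin 4) K) *ᵥ v) = 0 := by
    rw [← hQ]
    exact (hRO K hρ₁) v v
  obtain ⟨ρ₂, hρ₂, hfx₂, hz, hpv⟩ := clearAllD4 K hU {d | k ≤ pr8 d} (Sum.inl κ)
    ((ρ₁ : Matrix (Fin 4 ⊕ Fin 4) (Fin 4 ⊕ Fin 4) K) *ᵥ v) hne (by
    intro c hc1 hc2 hvc
    refine ⟨le_of_eq hκ.symm, ?_⟩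
    show k ≤ pr8 c.swap
    rw [pr8_swap]
    by_contra hlt
    exact hvc (hs₁ c (by omega)))
  have hQ₂ : Cfsg.quadFormPlus 4 K ((ρ₂ : Matrix (Fin 4 ⊕ Fin 4) (Fin 4 ⊕ Fin 4) K) *ᵥ
      ((ρ₁ : Matrix (Fin 4 ⊕ Fin 4) (Fin 4 ⊕ Fin 4) K) *ᵥ v)) = 0 := by
    rw [← hQ₁]
    exact (hRO K hρ₂) _ v
  have hz' : ∀ c, c ≠ Sum.inl κ → c ≠ Sum.inr κ →
      ((ρ₂ : Matrix (Fin 4 ⊕ Fin 4) (Fin 4 ⊕ Fin 4) K) *ᵥ
      ((ρ₁ : Matrix (Fin 4 ⊕ Fin 4) (Fin 4 ⊕ Fin 4) K) *ᵥ v)) c = 0 :=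
    fun c h1 h2 => hz c h1 (by simpa using h2)
  rw [qPlus_pair K _ κ hz'] at hQ₂
  have hy : ((ρ₂ : Matrix (Fin 4 ⊕ Fin 4) (Fin 4 ⊕ Fin 4) K) *ᵥ
      ((ρ₁ : Matrix (Fin 4 ⊕ Fin 4) (Fin 4 ⊕ Fin 4) K) *ᵥ v)) (Sum.inr κ) = 0 := by
    rcases mul_eq_zero.mp hQ₂ with h | h
    · rw [hpv] at h
      exact absurd h hne
    · exact h
  refine ⟨ρ₂ * ρ₁, Subgroup.mul_mem _ hρ₂ hρ₁, fxD4_mul K hfx₂ hfx₁,
    ((ρ₁ : Matrix (Fin 4 ⊕ Fin 4) (Fin 4 ⊕ Fin 4) K) *ᵥ v) (Sum.inl κ), hne, ?_⟩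
  rw [Units.val_mul, ← Matrix.mulVec_mulVec]
  ext d
  by_cases hd1 : d = Sum.inl κ
  · rw [hd1, hpv, Pi.smul_apply, eD_apply_self, smul_eq_mul, mul_one]
  · by_cases hd2 : d = Sum.inr κ
    · rw [hd2, hy, Pi.smul_apply, eD_apply_ne K (by simp), smul_zero]
    · rw [hz' d hd1 hd2, Pi.smul_apply, eD_apply_ne K hd1, smul_zero]

end

/-- **[ST-D4-k]** for `k = 0, 1, 2`, from [UNIT-D4] and [RO-D4]. -/
theorem pkgStD4_of (hU : PkgUnitD4.{u}) (hRO : PkgRoD4.{u}) (k : ℕ) (hk : k ≤ 2) :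
    PkgStD4.{u} k := by
  intro K _ g hg hmono
  have hQg : ∀ w, Cfsg.quadFormPlus 4 K ((g : Matrix (Fin 4 ⊕ Fin 4) (Fin 4 ⊕ Fin 4) K) *ᵥ w) =
      Cfsg.quadFormPlus 4 K w := fun w => hg w w
  have hk4 : k < 4 := by omega
  have hvQ : Cfsg.quadFormPlus 4 K
      ((g : Matrix (Fin 4 ⊕ Fin 4) (Fin 4 ⊕ Fin 4) K) *ᵥ eD K ⟨k, hk4⟩) = 0 := by
    rw [hQg]; exact qPlus_e K _
  have hvne : (g : Matrix (Fin 4 ⊕ Fin 4) (Fin 4 ⊕ Fin 4) K) *ᵥ eD K ⟨k, hk4⟩ ≠ 0 := by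
    intro h0
    have h1 : ((g⁻¹ : GL (Fin 4 ⊕ Fin 4) K) : Matrix (Fin 4 ⊕ Fin 4) (Fin 4 ⊕ Fin 4) K) *ᵥ
        ((g : Matrix (Fin 4 ⊕ Fin 4) (Fin 4 ⊕ Fin 4) K) *ᵥ eD K ⟨k, hk4⟩) = eD K ⟨k, hk4⟩ := by
      rw [Matrix.mulVec_mulVec, ← Units.val_mul, inv_mul_cancel, Units.val_one, Matrix.one_mulVec]
    rw [h0, Matrix.mulVec_zero] at h1
    have h2 := congrFun h1 (Sum.inl ⟨k, hk4⟩)
    rw [eD_apply_self] at h2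
    simp at h2
  have hvsupp : ∀ d, pr8 d < k →
      ((g : Matrix (Fin 4 ⊕ Fin 4) (Fin 4 ⊕ Fin 4) K) *ᵥ eD K ⟨k, hk4⟩) d = 0 := by
    intro d hd
    rcases d with i | i
    · obtain ⟨b, hb, -, hgf⟩ := hmono i hd
      rw [orth_fD4 K g hQg _ i b⁻¹ (inv_ne_zero hb) hgf, eD_apply_ne K (by
        intro h'
        have := congrArg Fin.val (Sum.inl.inj h')
        have hd' : i.val < k := hd
        simp at this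
        omega), mul_zero]
    · obtain ⟨b, hb, hge, -⟩ := hmono i hd
      rw [orth_eD4 K g hQg _ i b hb hge, eD_apply_ne K (by simp), mul_zero]
  obtain ⟨ρ₁, hρ₁, hfx₁, a, ha, hρv⟩ :=
    stepAD4 K hU hRO k hk ⟨k, hk4⟩ rfl _ hvsupp hvne hvQ
  have hhO : ρ₁ * g ∈ Cfsg.isometryGroup K (Cfsg.quadFormPlus 4 K) :=
    Subgroup.mul_mem _ (hRO K hρ₁) hg
  have hQh : ∀ w, Cfsg.quadFormPlus 4 K
      (((ρ₁ * g : GL (Fin 4 ⊕ Fin 4) K) : Matrix (Fin 4 ⊕ Fin 4) (Fin 4 ⊕ Fin 4) K) *ᵥ w) =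
      Cfsg.quadFormPlus 4 K w := fun w => hhO w w
  have hvanE : ∀ i : Fin 4, i.val < k → ∀ d ∈ {d : Fin 4 ⊕ Fin 4 | k ≤ pr8 d}, eD K i d = 0 := by
    intro i hi d hd
    apply eD_apply_ne
    rintro rfl
    have hd' : k ≤ i.val := hd
    omega
  have hvanF : ∀ i : Fin 4, i.val < k → ∀ d ∈ {d : Fin 4 ⊕ Fin 4 | k ≤ pr8 d}, fD K i d = 0 := by
    intro i hi d hd
    apply fD_apply_ne
    rintro rfl
    have hd' : k ≤ i.val := hd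
    omega
  have hhe : ∀ i : Fin 4, i.val < k → ∃ b : K, b ≠ 0 ∧
      ((ρ₁ * g : GL (Fin 4 ⊕ Fin 4) K) : Matrix (Fin 4 ⊕ Fin 4) (Fin 4 ⊕ Fin 4) K) *ᵥ eD K i =
        b • eD K i ∧
      ((ρ₁ * g : GL (Fin 4 ⊕ Fin 4) K) : Matrix (Fin 4 ⊕ Fin 4) (Fin 4 ⊕ Fin 4) K) *ᵥ fD K i =
        b⁻¹ • fD K i := by
    intro i hi
    obtain ⟨b, hb, hge, hgf⟩ := hmono i hi
    refine ⟨b, hb, ?_, ?_⟩
    · rw [Units.val_mul, ← Matrix.mulVec_mulVec, hge, Matrix.mulVec_smul,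
        hfx₁ (eD K i) (hvanE i hi)]
    · rw [Units.val_mul, ← Matrix.mulVec_mulVec, hgf, Matrix.mulVec_smul,
        hfx₁ (fD K i) (hvanF i hi)]
  have hhκ : ((ρ₁ * g : GL (Fin 4 ⊕ Fin 4) K) : Matrix (Fin 4 ⊕ Fin 4) (Fin 4 ⊕ Fin 4) K) *ᵥ
      eD K ⟨k, hk4⟩ = a • eD K ⟨k, hk4⟩ := by
    rw [Units.val_mul, ← Matrix.mulVec_mulVec]
    exact hρv
  have hwQ : Cfsg.quadFormPlus 4 K
      (((ρ₁ * g : GL (Fin 4 ⊕ Fin 4) K) : Matrix (Fin 4 ⊕ Fin 4) (Fin 4 ⊕ Fin 4) K) *ᵥ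
        fD K ⟨k, hk4⟩) = 0 := by
    rw [hQh]; exact qPlus_f K _
  have hwκ : (((ρ₁ * g : GL (Fin 4 ⊕ Fin 4) K) : Matrix (Fin 4 ⊕ Fin 4) (Fin 4 ⊕ Fin 4) K) *ᵥ
        fD K ⟨k, hk4⟩) (Sum.inr ⟨k, hk4⟩) = a⁻¹ := by
    rw [orth_eD4 K _ hQh _ _ a ha hhκ, fD_apply_self, mul_one]
  have hwsupp : ∀ d, pr8 d < k →
      (((ρ₁ * g : GL (Fin 4 ⊕ Fin 4) K) : Matrix (Fin 4 ⊕ Fin 4) (Fin 4 ⊕ Fin 4) K) *ᵥ
        fD K ⟨k, hk4⟩) d = 0 := by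
    intro d hd
    rcases d with i | i
    · obtain ⟨b, hb, -, hgf⟩ := hhe i hd
      rw [orth_fD4 K _ hQh _ i b⁻¹ (inv_ne_zero hb) hgf, fD_apply_ne K (by simp), mul_zero]
    · obtain ⟨b, hb, hge, -⟩ := hhe i hd
      rw [orth_eD4 K _ hQh _ i b hb hge, fD_apply_ne K (by
        intro h'
        have := congrArg Fin.val (Sum.inr.inj h')
        have hd' : i.val < k := hd
        simp at this
        omega), mul_zero]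
  obtain ⟨ρ₂, hρ₂, hfx₂, hz, hpv⟩ := clearAllD4 K hU
    {d | k ≤ pr8 d ∧ d ≠ Sum.inl ⟨k, hk4⟩} (Sum.inr ⟨k, hk4⟩)
    (((ρ₁ * g : GL (Fin 4 ⊕ Fin 4) K) : Matrix (Fin 4 ⊕ Fin 4) (Fin 4 ⊕ Fin 4) K) *ᵥ
        fD K ⟨k, hk4⟩) (by rw [hwκ]; exact inv_ne_zero ha) (by
    intro c hc1 hc2 hwc
    have hc2' : c ≠ Sum.inl ⟨k, hk4⟩ := by simpa using hc2
    refine ⟨⟨le_refl k, by simp⟩, ?_, ?_⟩
    · show k ≤ pr8 c.swap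
      rw [pr8_swap]
      by_contra hlt
      exact hwc (hwsupp c (by omega))
    · intro hsw
      apply hc1
      have h' := congrArg Sum.swap hsw
      simpa using h')
  have hQw' : Cfsg.quadFormPlus 4 K ((ρ₂ : Matrix (Fin 4 ⊕ Fin 4) (Fin 4 ⊕ Fin 4) K) *ᵥ
      (((ρ₁ * g : GL (Fin 4 ⊕ Fin 4) K) : Matrix (Fin 4 ⊕ Fin 4) (Fin 4 ⊕ Fin 4) K) *ᵥ
        fD K ⟨k, hk4⟩)) = 0 := by
    rw [← hwQ]
    exact (hRO K hρ₂) _ (0 : Fin 4 ⊕ Fin 4 → K)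
  have hz' : ∀ c, c ≠ Sum.inl ⟨k, hk4⟩ → c ≠ Sum.inr ⟨k, hk4⟩ →
      ((ρ₂ : Matrix (Fin 4 ⊕ Fin 4) (Fin 4 ⊕ Fin 4) K) *ᵥ
      (((ρ₁ * g : GL (Fin 4 ⊕ Fin 4) K) : Matrix (Fin 4 ⊕ Fin 4) (Fin 4 ⊕ Fin 4) K) *ᵥ
        fD K ⟨k, hk4⟩)) c = 0 :=
    fun c h1 h2 => hz c h2 (by simpa using h1)
  rw [qPlus_pair K _ ⟨k, hk4⟩ hz'] at hQw'
  have hx : ((ρ₂ : Matrix (Fin 4 ⊕ Fin 4) (Fin 4 ⊕ Fin 4) K) *ᵥ
      (((ρ₁ * g : GL (Fin 4 ⊕ Fin 4) K) : Matrix (Fin 4 ⊕ Fin 4) (Fin 4 ⊕ Fin 4) K) *ᵥ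
        fD K ⟨k, hk4⟩)) (Sum.inl ⟨k, hk4⟩) = 0 := by
    rcases mul_eq_zero.mp hQw' with h | h
    · exact h
    · rw [hpv, hwκ] at h
      exact absurd h (inv_ne_zero ha)
  have hw'eq : (ρ₂ : Matrix (Fin 4 ⊕ Fin 4) (Fin 4 ⊕ Fin 4) K) *ᵥ
      (((ρ₁ * g : GL (Fin 4 ⊕ Fin 4) K) : Matrix (Fin 4 ⊕ Fin 4) (Fin 4 ⊕ Fin 4) K) *ᵥ
        fD K ⟨k, hk4⟩) = a⁻¹ • fD K ⟨k, hk4⟩ := by
    ext d
    by_cases hd1 : d = Sum.inr ⟨k, hk4⟩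
    · rw [hd1, hpv, hwκ, Pi.smul_apply, fD_apply_self, smul_eq_mul, mul_one]
    · by_cases hd2 : d = Sum.inl ⟨k, hk4⟩
      · rw [hd2, hx, Pi.smul_apply, fD_apply_ne K (by simp), smul_zero]
      · rw [hz' d hd2 hd1, Pi.smul_apply, fD_apply_ne K hd1, smul_zero]
  have hvanE' : ∀ i : Fin 4, i.val < k + 1 →
      ∀ d ∈ {d : Fin 4 ⊕ Fin 4 | k ≤ pr8 d ∧ d ≠ Sum.inl ⟨k, hk4⟩}, eD K i d = 0 := by
    intro i hi d hd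
    apply eD_apply_ne
    rintro rfl
    obtain ⟨hd1, hd2⟩ := hd
    have hd' : k ≤ i.val := hd1
    apply hd2
    exact congrArg Sum.inl (Fin.ext (by simp; omega))
  have hvanF' : ∀ i : Fin 4, i.val < k →
      ∀ d ∈ {d : Fin 4 ⊕ Fin 4 | k ≤ pr8 d ∧ d ≠ Sum.inl ⟨k, hk4⟩}, fD K i d = 0 := by
    intro i hi d hd
    apply fD_apply_ne
    rintro rfl
    have hd' : k ≤ i.val := hd.1
    omega
  refine ⟨ρ₂ * ρ₁, Subgroup.mul_mem _ hρ₂ hρ₁, ?_⟩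
  intro i hi
  have hassoc : ((ρ₂ * ρ₁ * g : GL (Fin 4 ⊕ Fin 4) K) :
      Matrix (Fin 4 ⊕ Fin 4) (Fin 4 ⊕ Fin 4) K) =
      (ρ₂ : Matrix (Fin 4 ⊕ Fin 4) (Fin 4 ⊕ Fin 4) K) *
        ((ρ₁ * g : GL (Fin 4 ⊕ Fin 4) K) : Matrix (Fin 4 ⊕ Fin 4) (Fin 4 ⊕ Fin 4) K) := by
    rw [mul_assoc, Units.val_mul]
  by_cases hik : i.val < k
  · obtain ⟨b, hb, hbe, hbf⟩ := hhe i hik
    refine ⟨b, hb, ?_, ?_⟩
    · rw [hassoc, ← Matrix.mulVec_mulVec, hbe, Matrix.mulVec_smul,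
        hfx₂ (eD K i) (hvanE' i hi)]
    · rw [hassoc, ← Matrix.mulVec_mulVec, hbf, Matrix.mulVec_smul,
        hfx₂ (fD K i) (hvanF' i hik)]
  · have hiκ : i = ⟨k, hk4⟩ := Fin.ext (by simp; omega)
    rw [hiκ]
    refine ⟨a, ha, ?_, ?_⟩
    · rw [hassoc, ← Matrix.mulVec_mulVec, hhκ, Matrix.mulVec_smul,
        hfx₂ (eD K ⟨k, hk4⟩) (hvanE' ⟨k, hk4⟩ (by simp))]
    · rw [hassoc, ← Matrix.mulVec_mulVec]
      exact hw'eq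

/-- **[ST-D4-0]** -/
theorem pkgStD4_0_of (hU : PkgUnitD4.{u}) (hRO : PkgRoD4.{u}) : PkgStD4.{u} 0 :=
  pkgStD4_of hU hRO 0 (by norm_num)

/-- **[ST-D4-1]** -/
theorem pkgStD4_1_of (hU : PkgUnitD4.{u}) (hRO : PkgRoD4.{u}) : PkgStD4.{u} 1 :=
  pkgStD4_of hU hRO 1 (by norm_num)

/-- **[ST-D4-2]** -/
theorem pkgStD4_2_of (hU : PkgUnitD4.{u}) (hRO : PkgRoD4.{u}) : PkgStD4.{u} 2 :=
  pkgStD4_of hU hRO 2 (by norm_num)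

end Cfsg.Agent.Lib.Helper26.CHO
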